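import Cfsg.Agent.Lib.FPF.FixedPointFree

/-!
The Hughes-Thompson-Kegel theorem: a proper normal subgroup outside which every element has order
dividing a prime `p` is nilpotent, and has index `p` unless the group is a `p`-group.
-/

set_option autoImplicit false

namespace Cfsg.Agent.Lib.FPF

open Subgroup
open scoped Pointwise

universe u

section Avg

variable {V : Type u} [CommGroup V]

/-- If all elements of the coset `Y K` act as splitting automorphisms then the coprime group `K` is trivial. -/
theorem eq_bot_of_splitting [Finite V] {p : ℕ} (hp : p.Prime) (Y : MulAut V) (K : Subgroup (MulAut V))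
    (hcop : (Nat.card K).Coprime (Nat.card V)) (hYK : ∀ k ∈ K, Y * k * Y⁻¹ ∈ K)
    (hord : ∀ k ∈ K, (Y * k) ^ p = 1)
    (horb : ∀ k ∈ K, ∀ v : V, ∏ j ∈ Finset.range p, ((Y * k) ^ j) v = 1) : K = ⊥ := by
  classical
  have : Fintype K := Fintype.ofFinite _
  rw [eq_bot_iff]
  intro q hq
  rw [mem_bot]
  refine MulEquiv.ext fun v => ?_
  let T : V → V := fun x => ∏ k : K, (k : MulAut V) x
  have hTfix : ∀ x : V, q (T x) = T x := by
    intro x
    rw [map_prod]
    exact Finset.prod_equiv (Equiv.mulLeft ⟨q, hq⟩) (by simp) fun k _ => rfl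
  obtain ⟨s, hs⟩ := Nat.exists_eq_succ_of_ne_zero hp.ne_zero
  -- `Y` normalises `K`
  have hconj : ∀ (n : ℕ), ∀ k ∈ K, Y ^ n * k * (Y ^ n)⁻¹ ∈ K := by
    intro n
    induction n with
    | zero => simp
    | succ n ih =>
      intro k hk
      rw [pow_succ', show Y * Y ^ n * k * (Y * Y ^ n)⁻¹ = Y * (Y ^ n * k * (Y ^ n)⁻¹) * Y⁻¹ by group]
      exact hYK _ (ih k hk)
  have hsub : ∀ (n : ℕ), ∀ k ∈ K, (Y ^ n)⁻¹ * k * Y ^ n ∈ K := by
    intro n k hk
    let f : K → K := fun m => ⟨Y ^ n * m * (Y ^ n)⁻¹, hconj n m m.2⟩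
    have hf : Function.Injective f := fun a b e =>
      Subtype.ext (mul_left_cancel (mul_right_cancel (congrArg Subtype.val e)))
    obtain ⟨m, hm⟩ := Finite.surjective_of_injective hf ⟨k, hk⟩
    have hm' : Y ^ n * (m : MulAut V) * (Y ^ n)⁻¹ = k := congrArg Subtype.val hm
    rw [← hm']
    simp [mul_assoc]
  have hmem : ∀ (j : ℕ), ∀ k ∈ K, (Y ^ j)⁻¹ * (Y * k) ^ j ∈ K := by
    intro j
    induction j with
    | zero => intro k _; simp
    | succ j ih =>
      intro k hk
      rw [pow_succ, pow_succ, show (Y ^ j * Y)⁻¹ * ((Y * k) ^ j * (Y * k)) =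
        ((Y ^ 1)⁻¹ * ((Y ^ j)⁻¹ * (Y * k) ^ j) * Y ^ 1) * k by group]
      exact mul_mem (hsub 1 _ (ih k hk)) hk
  have hmain : v ^ Nat.card K * ∏ i ∈ Finset.range s, (Y ^ (i + 1)) (T v) = 1 := by
    have h1 : ∏ k : K, ∏ j ∈ Finset.range p, ((Y * (k : MulAut V)) ^ j) v = 1 :=
      Finset.prod_eq_one fun k _ => horb k k.2 v
    rw [← h1, hs]
    simp only [Nat.succ_eq_add_one, Finset.prod_range_succ', Finset.prod_mul_distrib, map_prod, T]
    rw [mul_comm]
    congr 1
    · conv_rhs => rw [Finset.prod_comm]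
      refine Finset.prod_congr rfl fun i hi => ?_
      have hi' : i + 1 < p := by rw [hs]; exact Nat.succ_lt_succ (Finset.mem_range.1 hi)
      let f : K → K := fun k => ⟨(Y ^ (i + 1))⁻¹ * (Y * k) ^ (i + 1), hmem _ k k.2⟩
      have hf : Function.Bijective f := by
        refine Finite.injective_iff_bijective.1 fun a b e => ?_
        have e' : (Y * (a : MulAut V)) ^ (i + 1) = (Y * (b : MulAut V)) ^ (i + 1) :=
          mul_left_cancel (congrArg Subtype.val e)
        have hcop' : Nat.Coprime (i + 1) p :=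
          (hp.coprime_iff_not_dvd.2 fun h => absurd (Nat.le_of_dvd (Nat.succ_pos i) h) (not_le.2 hi')).symm
        obtain ⟨m, hm⟩ := Nat.exists_mul_mod_eq_one_of_coprime hcop' hp.one_lt
        have key : ∀ w : MulAut V, w ^ p = 1 → (w ^ (i + 1)) ^ m = w := fun w hw => by
          rw [← pow_mul, ← Nat.div_add_mod ((i + 1) * m) p, hm.2, pow_add, pow_mul, hw, one_pow, one_mul, pow_one]
        have := key _ (hord b b.2)
        rw [← e', key _ (hord a a.2)] at this
        exact Subtype.ext (mul_left_cancel this)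
      symm
      refine Finset.prod_bijective f hf (by simp) fun k _ => ?_
      show ((Y * (k : MulAut V)) ^ (i + 1)) v = (Y ^ (i + 1) * ((Y ^ (i + 1))⁻¹ * (Y * k) ^ (i + 1))) v
      rw [mul_inv_cancel_left]
    · rw [Nat.card_eq_fintype_card, ← Finset.card_univ, ← Finset.prod_const]
      exact Finset.prod_congr rfl fun k _ => by rw [pow_zero]; rfl
  have hfix : q (v ^ Nat.card K) = v ^ Nat.card K := by
    rw [eq_inv_of_mul_eq_one_left hmain, map_inv, map_prod]
    refine congrArg _ (Finset.prod_congr rfl fun i _ => ?_)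
    obtain ⟨q', hq', e⟩ : ∃ q' ∈ K, q * Y ^ (i + 1) = Y ^ (i + 1) * q' :=
      ⟨_, hsub (i + 1) q hq, by group⟩
    show (q * Y ^ (i + 1)) (T v) = (Y ^ (i + 1)) (T v)
    rw [e]
    show (Y ^ (i + 1)) (q' (T v)) = _
    congr 1
    rw [map_prod]
    exact Finset.prod_equiv (Equiv.mulLeft ⟨q', hq'⟩) (by simp) fun k _ => rfl
  exact (powCoprime hcop.symm).injective (by simpa [powCoprime_apply, map_pow] using hfix)

end Avg

variable {G : Type u} [Group G]

open scoped IsMulCommutative in
theorem coe_prod_conj_mul_pow {V : Subgroup G} [V.Normal] [IsMulCommutative V] (v : V) (w : G) (n : ℕ) :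
    ((∏ j ∈ Finset.range n, ((MulAut.conjNormal w : MulAut V) ^ j) v : V) : G) * w ^ n = ((v : G) * w) ^ n := by
  induction n with
  | zero => simp
  | succ n ih =>
    rw [Finset.prod_range_succ, pow_succ ((v : G) * w), ← ih, Subgroup.coe_mul, ← map_pow,
      MulAut.conjNormal_apply, pow_succ]
    simp [mul_assoc]

open scoped IsMulCommutative in
/-- Orbit products of an element outside a Hughes subgroup. -/
theorem orbit_prod_eq_one {H V : Subgroup G} [V.Normal] [IsMulCommutative V] (hVH : V ≤ H) {p : ℕ}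
    (hout : ∀ g : G, g ∉ H → g ^ p = 1) {w : G} (hw : w ∉ H) (v : V) :
    ∏ j ∈ Finset.range p, ((MulAut.conjNormal w : MulAut V) ^ j) v = 1 := by
  refine Subtype.ext ?_
  have h := coe_prod_conj_mul_pow v w p
  have hvw : (v : G) * w ∉ H := fun h' => hw ((H.mul_mem_cancel_left (hVH v.2)).1 h')
  rw [hout w hw, hout _ hvw, mul_one] at h
  exact h

open scoped IsMulCommutative in
/-- A coprime subgroup inside the Hughes subgroup normalised by an outside element centralises `V`. -/
theorem le_centralizer_of_outside [Finite G] {H V : Subgroup G} [V.Normal] [IsMulCommutative V] (hVH : V ≤ H)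
    {p : ℕ} (hp : p.Prime) (hout : ∀ g : G, g ∉ H → g ^ p = 1) {y : G} (hy : y ∉ H) {K : Subgroup G}
    (hKH : K ≤ H) (hyK : y ∈ normalizer (K : Set G)) (hcop : (Nat.card K).Coprime (Nat.card V)) :
    K ≤ centralizer (V : Set G) := by
  have h : K.map (MulAut.conjNormal : G →* MulAut V) = ⊥ := by
    refine eq_bot_of_splitting hp (MulAut.conjNormal y) _ (hcop.coprime_dvd_left (card_map_dvd _ _)) ?_ ?_ ?_
    · rintro _ ⟨k, hk, rfl⟩
      exact ⟨y * k * y⁻¹, (mem_normalizer_iff.1 hyK k).1 hk, by simp⟩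
    · rintro _ ⟨k, hk, rfl⟩
      rw [← map_mul, ← map_pow, hout _ (fun h => hy ((H.mul_mem_cancel_right (hKH hk)).1 h)), map_one]
    · rintro _ ⟨k, hk, rfl⟩ v
      rw [← map_mul]
      exact orbit_prod_eq_one hVH hout (fun h => hy ((H.mul_mem_cancel_right (hKH hk)).1 h)) v
  intro k hk
  rw [mem_centralizer_iff]
  intro x hx
  have h1 : (MulAut.conjNormal k : MulAut V) = 1 := mem_bot.1 (h ▸ mem_map_of_mem _ hk)
  have h2 := congrArg Subtype.val (DFunLike.congr_fun h1 (⟨x, hx⟩ : V))
  rw [MulAut.conjNormal_apply] at h2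
  exact (mul_inv_eq_iff_eq_mul.1 h2).symm

open scoped IsMulCommutative in
/-- An element acting with all twisted powers outside `H` and commuting with an outside element acts trivially. -/
theorem conjNormal_eq_one_of_line [Finite G] {H V : Subgroup G} [V.Normal] [IsMulCommutative V] (hVH : V ≤ H)
    {p : ℕ} (hp : p.Prime) (hout : ∀ g : G, g ∉ H → g ^ p = 1) (hVp : (Nat.card V).Coprime p)
    {x z : G} (hxz : ∀ i : ℤ, x * z ^ i ∉ H) (hzp : (MulAut.conjNormal z : MulAut V) ^ p = 1)
    (hcomm : (MulAut.conjNormal x : MulAut V) * MulAut.conjNormal z = MulAut.conjNormal z * MulAut.conjNormal x) :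
    (MulAut.conjNormal z : MulAut V) = 1 := by
  have h : zpowers (MulAut.conjNormal z : MulAut V) = ⊥ := by
    refine eq_bot_of_splitting hp (MulAut.conjNormal x) _ ?_ ?_ ?_ ?_
    · rw [Nat.card_zpowers]
      exact (hVp.symm).coprime_dvd_left (orderOf_dvd_of_pow_eq_one hzp)
    · rintro _ ⟨i, rfl⟩
      refine ⟨i, ?_⟩
      show _ = MulAut.conjNormal x * MulAut.conjNormal z ^ i * (MulAut.conjNormal x)⁻¹
      rw [(Commute.zpow_right hcomm i).eq, mul_inv_cancel_right]
    · rintro _ ⟨i, rfl⟩
      show (MulAut.conjNormal x * MulAut.conjNormal z ^ i) ^ p = (1 : MulAut V)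
      rw [← map_zpow, ← map_mul, ← map_pow, hout _ (hxz i), map_one]
    · rintro _ ⟨i, rfl⟩ v
      show ∏ j ∈ Finset.range p, (((MulAut.conjNormal x : MulAut V) * (MulAut.conjNormal z : MulAut V) ^ i) ^ j) v = 1
      rw [← map_zpow, ← map_mul]
      exact orbit_prod_eq_one hVH hout (hxz i) v
  exact mem_bot.1 (h ▸ mem_zpowers _)

/-- `p`-elements of `H` centralise normal `p'`-subgroups inside `H`. -/
theorem sylow_inf_le_centralizer [Finite G] {H V : Subgroup G} [H.Normal] [V.Normal] [IsMulCommutative V]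
    (hVH : V ≤ H) {p : ℕ} [hp : Fact p.Prime] (hout : ∀ g : G, g ∉ H → g ^ p = 1)
    (hVp : (Nat.card V).Coprime p) (S : Sylow p G) (hS : ¬ (S : Subgroup G) ≤ H) :
    (S : Subgroup G) ⊓ H ≤ centralizer (V : Set G) := by
  classical
  obtain ⟨x, hxS, hxH⟩ := SetLike.not_le_iff_exists.1 hS
  let c : S →* MulAut V := (MulAut.conjNormal : G →* MulAut V).comp (S : Subgroup G).subtype
  by_contra hnot
  obtain ⟨u, hu, huC⟩ := SetLike.not_le_iff_exists.1 hnot
  let P' : Subgroup c.range := (H.subgroupOf (S : Subgroup G)).map c.rangeRestrict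
  have hP'n : P'.Normal := (inferInstance : (H.subgroupOf (S : Subgroup G)).Normal).map _ c.rangeRestrict_surjective
  have hrange : IsPGroup p c.range := S.2.of_surjective c.rangeRestrict c.rangeRestrict_surjective
  have hP'ne : Nontrivial P' := by
    rw [nontrivial_iff_ne_bot]
    intro h
    apply huC
    have hu' : c.rangeRestrict ⟨u, hu.1⟩ ∈ P' := ⟨⟨u, hu.1⟩, hu.2, rfl⟩
    rw [h, mem_bot] at hu'
    have h1 : (MulAut.conjNormal u : MulAut V) = 1 := congrArg Subtype.val hu'
    rw [mem_centralizer_iff]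
    intro y hy
    have h2 := congrArg Subtype.val (DFunLike.congr_fun h1 (⟨y, hy⟩ : V))
    rw [MulAut.conjNormal_apply] at h2
    exact (mul_inv_eq_iff_eq_mul.1 h2).symm
  obtain ⟨ζ, hζ, hζp, hζc⟩ : ∃ ζ : c.range, ζ ∈ P' ∧ orderOf ζ = p ∧ ∀ w : c.range, w * ζ = ζ * w := by
    obtain ⟨k, hk0, hk⟩ := (IsPGroup.nontrivial_iff_card (hrange.to_subgroup P')).1 hP'ne
    have h1 : (1 : P') ∈ MulAction.fixedPoints (ConjAct c.range) P' := fun g => smul_one g
    obtain ⟨b, hb, hb1⟩ := (hrange.of_equiv ConjAct.toConjAct).exists_fixed_point_of_prime_dvd_card_of_fixed_point P'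
      (hk ▸ dvd_pow_self p hk0.ne') h1
    have hbne : (b : c.range) ≠ 1 := fun h => hb1 (Subtype.ext h).symm
    obtain ⟨j, hj⟩ := IsPGroup.iff_orderOf.1 hrange (b : c.range)
    have hj0 : 0 < j := Nat.pos_of_ne_zero fun h => hbne (orderOf_eq_one_iff.1 (by rw [hj, h, pow_zero]))
    refine ⟨(b : c.range) ^ p ^ (j - 1), pow_mem b.2 _, ?_, fun w => ?_⟩
    · have hdd : p ^ (j - 1) ∣ orderOf (b : c.range) := hj ▸ Nat.pow_dvd_pow p (by omega)
      rw [orderOf_pow_of_dvd (pow_ne_zero _ hp.out.ne_zero) hdd, hj, Nat.pow_div (by omega) hp.out.pos,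
        show j - (j - 1) = 1 by omega, pow_one]
    · have hw := congrArg Subtype.val (hb (ConjAct.toConjAct w))
      rw [ConjAct.Subgroup.val_conj_smul, ConjAct.smul_def, ConjAct.ofConjAct_toConjAct,
        mul_inv_eq_iff_eq_mul] at hw
      exact (Commute.pow_right hw _).eq
  obtain ⟨z, hzH, rfl⟩ := hζ
  have h1 : (MulAut.conjNormal (z : G) : MulAut V) = 1 := by
    refine conjNormal_eq_one_of_line hVH hp.out hout hVp (x := x) (fun i h => hxH ?_) ?_ ?_
    · exact (H.mul_mem_cancel_right (H.zpow_mem hzH i)).1 h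
    · have := pow_orderOf_eq_one (c.rangeRestrict z)
      rw [hζp] at this
      exact congrArg Subtype.val this
    · exact congrArg Subtype.val (hζc (c.rangeRestrict ⟨x, hxS⟩))
  have : orderOf (c.rangeRestrict z) = 1 := orderOf_eq_one_iff.2 (Subtype.ext h1)
  exact hp.out.ne_one (hζp.symm.trans this)

theorem hughes_nilpotent_aux {p : ℕ} [hp : Fact p.Prime] (n : ℕ) :
    ∀ (G : Type u) [Group G] [Finite G] (H : Subgroup G) [H.Normal], Nat.card G = n → H ≠ ⊤ →
      (∀ g : G, g ∉ H → g ^ p = 1) → Group.IsNilpotent H := by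
  induction n using Nat.strongRecOn with | ind n ih => ?_
  intro G _ _ H _ hn hH hout
  classical
  -- passing to subgroups
  have hsub : ∀ L : Subgroup G, L ≠ ⊤ → ¬ L ≤ H → Group.IsNilpotent (H ⊓ L : Subgroup G) := by
    intro L hL hLH
    have := ih _ (hn ▸ Lib.Coprime.card_lt_of_ne_top hL) L (H.subgroupOf L) rfl
      (fun h => hLH (subgroupOf_eq_top.1 h)) (fun g hg => Subtype.ext (by simpa using hout g hg))
    have h2 : Group.IsNilpotent ((H ⊓ L).subgroupOf L) := by rwa [inf_subgroupOf_right]
    exact Group.nilpotent_of_mulEquiv (subgroupOfEquivOfLe (inf_le_right : H ⊓ L ≤ L))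
  by_cases hR : ∃ (r : ℕ) (M : Subgroup G), r.Prime ∧ M.Normal ∧ IsPGroup r M ∧ M ≠ ⊥ ∧ M ≤ H
  · obtain ⟨r, M, hr, hMn, hMr, hMne, hMH⟩ := hR
    have := Fact.mk hr
    have hquot : ∀ (N : Subgroup G) [N.Normal], N ≠ ⊥ → N ≤ H →
        Group.IsNilpotent (H.map (QuotientGroup.mk' N)) := by
      intro N _ hNne hNH
      have : (H.map (QuotientGroup.mk' N)).Normal :=
        (inferInstance : H.Normal).map _ (QuotientGroup.mk'_surjective N)
      refine ih _ (hn ▸ Lib.Coprime.card_quotient_lt hNne) _ _ rfl (fun h => hH ?_) ?_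
      · have h' := congrArg (Subgroup.comap (QuotientGroup.mk' N)) h
        rwa [comap_map_eq, QuotientGroup.ker_mk', sup_eq_left.2 hNH, comap_top] at h'
      · intro g hg
        obtain ⟨g, rfl⟩ := QuotientGroup.mk'_surjective N g
        rw [← map_pow, hout g (fun h => hg (mem_map_of_mem _ h)), map_one]
    obtain ⟨R⟩ := (inferInstance : Nonempty (Sylow r H))
    have hMR : M.subgroupOf H ≤ (R : Subgroup H) := by
      have h := R.3 (Lib.Hall.isPGroup_sup_of_normal (K := M.subgroupOf H) R.2 hMr.comap_subtype) le_sup_left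
      exact le_sup_right.trans h.le
    have hRn : (R : Subgroup H).Normal := by
      have := hquot M hMne hMH
      let f := (QuotientGroup.mk' M).subgroupMap H
      have hf : Function.Surjective f := (QuotientGroup.mk' M).subgroupMap_surjective H
      have hker : f.ker ≤ (R : Subgroup H) := fun x hx =>
        hMR ((QuotientGroup.eq_one_iff (x : G)).1 (congrArg Subtype.val hx))
      have h1 : ((R.mapSurjective hf).toSubgroup).comap f = R := by
        rw [Sylow.coe_mapSurjective, comap_map_eq, sup_eq_left.2 hker]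
      rw [← h1]
      exact (inferInstance : ((R.mapSurjective hf).toSubgroup).Normal).comap _
    have hRchar : (R : Subgroup H).Characteristic := R.characteristic_of_normal hRn
    set R' := (R : Subgroup H).map H.subtype with hR'
    have hR'n : R'.Normal := inferInstance
    have hR'p : IsPGroup r R' := R.2.map _
    have hR'ne : R' ≠ ⊥ := fun h => hMne (by
      rw [eq_bot_iff, ← h, hR', ← map_subgroupOf_eq_of_le hMH]; exact map_mono hMR)
    set V := R' ⊓ centralizer (R' : Set G) with hV
    have hVn : V.Normal := inferInstance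
    have hVH : V ≤ H := inf_le_left.trans (map_subtype_le _)
    have hVc : IsMulCommutative V := ⟨⟨fun a b => Subtype.ext (mem_centralizer_iff.1 b.2.2 _ a.2.1)⟩⟩
    have hVne : V ≠ ⊥ := by
      intro hz
      have : Nontrivial R' := (nontrivial_iff_ne_bot _).2 hR'ne
      obtain ⟨z, hz1⟩ := (nontrivial_iff_exists_ne_one (center R')).1 hR'p.center_nontrivial
      refine hz1.2 (Subtype.ext (mem_bot.1 ?_))
      rw [← hz]
      exact ⟨z.2, mem_centralizer_iff.2 fun y hy => congrArg Subtype.val (mem_center_iff.1 hz1.1 ⟨y, hy⟩)⟩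
    have htop : (centralizer (V : Set G)).subgroupOf H = ⊤ := by
      rw [← index_eq_one]
      by_contra hne
      obtain ⟨s, hs, hsd⟩ := Nat.exists_prime_and_dvd hne
      have := Fact.mk hs
      obtain ⟨U, hU⟩ : ∃ U : Sylow s H, (U : Subgroup H) ≤ (centralizer (V : Set G)).subgroupOf H := by
        by_cases hsr : s = r
        · subst hsr
          exact ⟨R, fun x hx => mem_subgroupOf.2 (mem_centralizer_iff.2 fun v hv =>
            (mem_centralizer_iff.1 hv.2 _ (mem_map_of_mem H.subtype hx)).symm)⟩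
        have hcopV : ∀ U : Subgroup G, IsPGroup s U → (Nat.card U).Coprime (Nat.card V) := fun U hU => by
          obtain ⟨a, ha⟩ := IsPGroup.iff_card.1 hU
          obtain ⟨b, hb⟩ := IsPGroup.iff_card.1 (hR'p.to_le (inf_le_left : V ≤ R'))
          rw [ha, hb]
          exact Nat.coprime_pow_primes a b hs hr hsr
        by_cases hsp : s = p
        · subst hsp
          obtain ⟨S⟩ := (inferInstance : Nonempty (Sylow s G))
          obtain ⟨U, hU⟩ := Lib.Transfer.exists_sylow_inf S H
          refine ⟨U, fun y hy => mem_subgroupOf.2 ?_⟩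
          rw [hU, mem_subgroupOf] at hy
          have hSH : ¬ (S : Subgroup G) ≤ H := by
            intro h
            apply hH
            rw [← index_eq_one]
            by_contra hne'
            obtain ⟨g, hg⟩ := SetLike.exists_of_lt (lt_top_iff_ne_top.2 hH)
            have hd : s ∣ H.index := by
              obtain ⟨t, ht, htd⟩ := Nat.exists_prime_and_dvd hne'
              have := Fact.mk ht
              obtain ⟨q, hq⟩ := exists_prime_orderOf_dvd_card' (G := G ⧸ H) t htd
              obtain ⟨q, rfl⟩ := QuotientGroup.mk_surjective q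
              have hqH : q ∉ H := fun h => ht.ne_one (by
                rw [← hq, (QuotientGroup.eq_one_iff q).2 h, orderOf_one])
              have h1 : (q : G ⧸ H) ^ s = 1 := by rw [← QuotientGroup.mk_pow, hout q hqH]; rfl
              have h2 : t ∣ s := hq ▸ orderOf_dvd_of_pow_eq_one h1
              rwa [← (Nat.prime_dvd_prime_iff_eq ht hs).1 h2]
            exact S.not_dvd_index (hd.trans (index_dvd_of_le h))
          refine sylow_inf_le_centralizer hVH hout ?_ S hSH ⟨hy, y.2⟩
          obtain ⟨b, hb⟩ := IsPGroup.iff_card.1 (hR'p.to_le (inf_le_left : V ≤ R'))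
          rw [hb]
          exact ((Nat.coprime_primes hr hs).2 (Ne.symm hsr)).pow_left b
        · obtain ⟨U⟩ := (inferInstance : Nonempty (Sylow s H))
          refine ⟨U, ?_⟩
          obtain ⟨y, hy, hyH⟩ : ∃ y ∈ normalizer (((U : Subgroup H).map H.subtype : Subgroup G) : Set G), y ∉ H := by
            by_contra hall
            push Not at hall
            exact hH (top_le_iff.1 ((Sylow.normalizer_sup_eq_top U).ge.trans (sup_le hall le_rfl)))
          have := le_centralizer_of_outside hVH hp.out hout hyH (map_subtype_le _) hy (hcopV _ (U.2.map _))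
          exact fun x hx => mem_subgroupOf.2 (this (mem_map_of_mem H.subtype hx))
      exact U.not_dvd_index (hsd.trans (index_dvd_of_le hU))
    have := hquot V hVne hVH
    refine Subgroup.isNilpotent_of_ker_le_center ((QuotientGroup.mk' V).subgroupMap H) ?_
    intro x hx
    have hxV : (x : G) ∈ V := (QuotientGroup.eq_one_iff (x : G)).1 (congrArg Subtype.val hx)
    rw [mem_center_iff]
    intro h
    have hh : h ∈ (centralizer (V : Set G)).subgroupOf H := htop ▸ mem_top h
    exact Subtype.ext (mem_centralizer_iff.1 (mem_subgroupOf.1 hh) _ hxV).symm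
  · push Not at hR
    by_cases h2 : IsPGroup 2 H
    · exact h2.isNilpotent
    exfalso
    obtain ⟨r, hr, hrd, hr2⟩ : ∃ r, r.Prime ∧ r ∣ Nat.card H ∧ r ≠ 2 := by
      by_contra hall
      push Not at hall
      exact h2 (IsPGroup.of_card (Nat.eq_prime_pow_of_unique_prime_dvd Nat.card_pos.ne' fun {d} hd hdn => hall d hd hdn))
    have := Fact.mk hr
    obtain ⟨R⟩ := (inferInstance : Nonempty (Sylow r H))
    set R' := (R : Subgroup H).map H.subtype with hR'
    have hR'p : IsPGroup r R' := R.2.map _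
    have hR'ne : R' ≠ ⊥ := by
      rw [hR', Ne, Subgroup.map_eq_bot_iff_of_injective _ H.subtype_injective]
      exact R.ne_bot_of_dvd_card hrd
    have hR'H : R' ≤ H := map_subtype_le _
    obtain ⟨y, hy, hyH⟩ : ∃ y ∈ normalizer (R' : Set G), y ∉ H := by
      by_contra hall
      push Not at hall
      exact hH (top_le_iff.1 ((Sylow.normalizer_sup_eq_top R).ge.trans (sup_le hall le_rfl)))
    -- local subgroups of H are nilpotent
    have hloc : ∀ A : Subgroup G, IsPGroup r A → A ≠ ⊥ → A ≤ H →
        normalizer (R' : Set G) ≤ normalizer (A : Set G) →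
        HasNormalPComplement r (H ⊓ normalizer (A : Set G) : Subgroup G) := by
      intro A hA hAne hAH hle
      have := hsub (normalizer (A : Set G)) (fun h => hAne (by
        by_contra
        exact hR r A hr (normalizer_eq_top_iff.1 h) hA hAne hAH)) (fun h => hyH (h (hle hy)))
      exact npc_of_isNilpotent r
    have hhyp : ThompsonHyp r (R : Subgroup H) := by
      constructor
      · have hJ : thompsonSubgroupOf r R' = (thompsonSubgroupOf r (R : Subgroup H)).map H.subtype :=
          (thompsonSubgroupOf_map H.subtype H.subtype_injective.injOn).symm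
        let g : normalizer (thompsonSubgroupOf r (R : Subgroup H) : Set H) →*
            (H ⊓ normalizer (thompsonSubgroupOf r R' : Set G) : Subgroup G) :=
          (H.subtype.comp (Subgroup.subtype _)).codRestrict _ fun x => mem_inf.2 ⟨x.1.2, by
            rw [hJ]
            exact le_normalizer_map H.subtype ⟨x, x.2, rfl⟩⟩
        exact Lib.Transfer.HasNormalPComplement.of_injective g
          (fun a b e => Subtype.ext (Subtype.ext (by simpa [g] using congrArg Subtype.val e)))
          (hloc _ (hR'p.to_le (thompsonSubgroupOf_le _)) (thompsonSubgroupOf_ne_bot hR'p hR'ne)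
            ((thompsonSubgroupOf_le _).trans hR'H) (normalizer_le_normalizer_thompson _))
      · set Z := R' ⊓ centralizer (R' : Set G) with hZ
        have hZe : Z = ((R : Subgroup H) ⊓ centralizer ((R : Subgroup H) : Set H)).map H.subtype :=
          (map_center_of_injOn H.subtype H.subtype_injective.injOn).symm
        let g : centralizer (((R : Subgroup H) ⊓ centralizer ((R : Subgroup H) : Set H) : Subgroup H) : Set H) →*
            (H ⊓ normalizer (Z : Set G) : Subgroup G) :=
          (H.subtype.comp (Subgroup.subtype _)).codRestrict _ fun x => mem_inf.2 ⟨x.1.2, by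
            rw [hZe]
            exact le_normalizer_map H.subtype ⟨x, centralizer_le_normalizer _ x.2, rfl⟩⟩
        refine Lib.Transfer.HasNormalPComplement.of_injective g
          (fun a b e => Subtype.ext (Subtype.ext (by simpa [g] using congrArg Subtype.val e)))
          (hloc _ (hR'p.to_le inf_le_left) ?_ (inf_le_left.trans hR'H) (normalizer_le_normalizer_center _))
        intro hz
        have : Nontrivial R' := (nontrivial_iff_ne_bot _).2 hR'ne
        obtain ⟨z, hz1⟩ := (nontrivial_iff_exists_ne_one (center R')).1 hR'p.center_nontrivial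
        refine hz1.2 (Subtype.ext (mem_bot.1 ?_))
        rw [← hz]
        exact ⟨z.2, mem_centralizer_iff.2 fun y hy => congrArg Subtype.val (mem_center_iff.1 hz1.1 ⟨y, hy⟩)⟩
    have hnpc := thompson_normal_p_complement hr2 R hhyp
    -- the complement
    have hMc : (pResidual r H).Characteristic := Lib.Transfer.pResidual_characteristic
    set M := (pResidual r H).map H.subtype with hM
    have hMn : M.Normal := inferInstance
    have hMH : M ≤ H := map_subtype_le _
    have hMne : M ≠ ⊥ := by
      intro h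
      rw [hM, Subgroup.map_eq_bot_iff_of_injective _ H.subtype_injective] at h
      have hHr : IsPGroup r H := (Lib.Transfer.isPGroup_quotient_pResidual (G := H) (p := r)).of_equiv
        ((QuotientGroup.quotientMulEquivOfEq h).trans QuotientGroup.quotientBot)
      exact hR r H hr inferInstance hHr (fun e => hR'ne (le_bot_iff.1 (hR'H.trans e.le))) le_rfl
    have hMcard : ¬ r ∣ Nat.card M := by
      rw [hM, card_map_of_injective H.subtype_injective]
      exact Lib.Transfer.hasNormalPComplement_iff.1 hnpc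
    obtain ⟨g, -, hg⟩ := SetLike.exists_of_lt (lt_top_iff_ne_top.2 hH)
    set L := zpowers g ⊔ M with hL
    have hLH : ¬ L ≤ H := fun h => hg (h ((le_sup_left : zpowers g ≤ L) (mem_zpowers g)))
    have hLne : L ≠ ⊤ := by
      intro h
      -- otherwise `G / M` would be cyclic of order dividing p, forcing `M = H`
      have hsurj : (zpowers g).map (QuotientGroup.mk' M) = ⊤ := by
        have h1 := congrArg (Subgroup.map (QuotientGroup.mk' M)) h
        rwa [hL, Subgroup.map_sup, QuotientGroup.map_mk'_self, sup_bot_eq,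
          map_top_of_surjective _ (QuotientGroup.mk'_surjective M)] at h1
      have hle : M.index ≤ p := by
        rw [index, ← card_top (G := G ⧸ M), ← hsurj]
        refine le_trans (Nat.le_of_dvd Nat.card_pos (card_map_dvd (zpowers g) _)) ?_
        rw [Nat.card_zpowers]
        exact Nat.le_of_dvd hp.out.pos (orderOf_dvd_of_pow_eq_one (hout g hg))
      have hi : H.index = p := by
        have hpd : H.index ∣ M.index := index_dvd_of_le hMH
        have hne1 : H.index ≠ 1 := fun e => hH (index_eq_one.1 e)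
        obtain ⟨t, ht, htd⟩ := Nat.exists_prime_and_dvd hne1
        have := Fact.mk ht
        obtain ⟨q, hq⟩ := exists_prime_orderOf_dvd_card' (G := G ⧸ H) t htd
        obtain ⟨q, rfl⟩ := QuotientGroup.mk_surjective q
        have hqH : q ∉ H := fun h => ht.ne_one (by rw [← hq, (QuotientGroup.eq_one_iff q).2 h, orderOf_one])
        have h1 : (q : G ⧸ H) ^ p = 1 := by rw [← QuotientGroup.mk_pow, hout q hqH]; rfl
        have htp : t = p := (Nat.prime_dvd_prime_iff_eq ht hp.out).1 (hq ▸ orderOf_dvd_of_pow_eq_one h1)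
        subst htp
        have h2 : H.index ≤ M.index := Nat.le_of_dvd (Nat.pos_of_ne_zero index_ne_zero_of_finite) hpd
        have h3 : t ≤ H.index := Nat.le_of_dvd (Nat.pos_of_ne_zero index_ne_zero_of_finite) htd
        omega
      have hMeq : M = H := by
        refine eq_of_le_of_card_ge hMH ?_
        have h1 := M.index_mul_card
        have h2 := H.index_mul_card
        rw [hi] at h2
        have h4 : p * Nat.card H ≤ p * Nat.card M :=
          h2.le.trans (h1.ge.trans (Nat.mul_le_mul_right _ hle))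
        exact Nat.le_of_mul_le_mul_left h4 hp.out.pos
      exact hMcard (hMeq ▸ hrd)
    have hnilL := hsub L hLne hLH
    have hML : M ≤ H ⊓ L := le_inf hMH le_sup_right
    have hMnil : Group.IsNilpotent M :=
      Group.nilpotent_of_mulEquiv (subgroupOfEquivOfLe hML)
    obtain ⟨q, hq, hqd⟩ := Nat.exists_prime_and_dvd (fun h => hMne (card_eq_one.1 h) : Nat.card M ≠ 1)
    have := Fact.mk hq
    obtain ⟨S⟩ := (inferInstance : Nonempty (Sylow q M))
    have hSc : (S : Subgroup M).Characteristic := S.characteristic_of_normal inferInstance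
    refine hR q ((S : Subgroup M).map M.subtype) hq inferInstance (S.2.map _) ?_
      ((map_subtype_le _).trans hMH)
    rw [Ne, Subgroup.map_eq_bot_iff_of_injective _ M.subtype_injective]
    exact S.ne_bot_of_dvd_card hqd

/-- Kegel's form of the Hughes-Thompson theorem. -/
theorem hughes_nilpotent [Finite G] {p : ℕ} [Fact p.Prime] (H : Subgroup G) [H.Normal] (hH : H ≠ ⊤)
    (hout : ∀ g : G, g ∉ H → g ^ p = 1) : Group.IsNilpotent H :=
  hughes_nilpotent_aux _ G H rfl hH hout

/-- Hughes and Thompson: the index is `p`. -/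
theorem hughes_index [Finite G] {p : ℕ} [hp : Fact p.Prime] (H : Subgroup G) [H.Normal] (hH : H ≠ ⊤)
    (hout : ∀ g : G, g ∉ H → g ^ p = 1) (hG : ¬ IsPGroup p G) : H.index = p := by
  classical
  have hquot : IsPGroup p (G ⧸ H) := by
    intro q
    obtain ⟨g, rfl⟩ := QuotientGroup.mk_surjective q
    by_cases hg : g ∈ H
    · exact ⟨0, by rw [pow_zero, pow_one, (QuotientGroup.eq_one_iff g).2 hg]⟩
    · exact ⟨1, by rw [pow_one, ← QuotientGroup.mk_pow, hout g hg]; rfl⟩
  have : Nontrivial (G ⧸ H) := QuotientGroup.nontrivial_iff.2 hH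
  -- a prime different from p
  obtain ⟨q, hq, hqd, hqp⟩ : ∃ q, q.Prime ∧ q ∣ Nat.card H ∧ q ≠ p := by
    by_contra hall
    push Not at hall
    apply hG
    have hHp : IsPGroup p H := IsPGroup.of_card
      (Nat.eq_prime_pow_of_unique_prime_dvd Nat.card_pos.ne' fun {d} hd hdn => hall d hd hdn)
    obtain ⟨a, ha⟩ := IsPGroup.iff_card.1 hHp
    obtain ⟨b, hb⟩ := IsPGroup.iff_card.1 hquot
    exact IsPGroup.of_card (n := b + a) (by rw [card_eq_card_quotient_mul_card_subgroup H, ha, hb, pow_add])
  have := Fact.mk hq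
  have hnil := hughes_nilpotent H hH hout
  obtain ⟨Q⟩ := (inferInstance : Nonempty (Sylow q H))
  have hQc : (Q : Subgroup H).Characteristic := Q.characteristic_of_normal inferInstance
  set Q' := (Q : Subgroup H).map H.subtype with hQ'
  have hQ'p : IsPGroup q Q' := Q.2.map _
  have hQne : Q' ≠ ⊥ := by
    rw [hQ', Ne, Subgroup.map_eq_bot_iff_of_injective _ H.subtype_injective]
    exact Q.ne_bot_of_dvd_card hqd
  set V := Q' ⊓ centralizer (Q' : Set G) with hV
  have hQ'n : Q'.Normal := inferInstance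
  have hVn : V.Normal := inferInstance
  have hVH : V ≤ H := inf_le_left.trans (map_subtype_le _)
  have hVc : IsMulCommutative V := ⟨⟨fun a b => Subtype.ext (mem_centralizer_iff.1 b.2.2 _ a.2.1)⟩⟩
  have hVne : V ≠ ⊥ := by
    intro hz
    have : Nontrivial Q' := (nontrivial_iff_ne_bot _).2 hQne
    obtain ⟨z, hz1⟩ := (nontrivial_iff_exists_ne_one (center Q')).1 hQ'p.center_nontrivial
    refine hz1.2 (Subtype.ext (mem_bot.1 ?_))
    rw [← hz]
    exact ⟨z.2, mem_centralizer_iff.2 fun y hy => congrArg Subtype.val (mem_center_iff.1 hz1.1 ⟨y, hy⟩)⟩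
  have hVp : (Nat.card V).Coprime p := by
    obtain ⟨b, hb⟩ := IsPGroup.iff_card.1 (hQ'p.to_le (inf_le_left : V ≤ Q'))
    rw [hb]
    exact ((Nat.coprime_primes hq hp.out).2 hqp).pow_left b
  obtain ⟨m, hm0, hm⟩ := (IsPGroup.nontrivial_iff_card hquot).1 inferInstance
  rw [index, hm]
  by_contra hne
  have hm2 : 2 ≤ m := by
    by_contra h
    apply hne
    rw [show m = 1 by omega, pow_one]
  obtain ⟨S⟩ := (inferInstance : Nonempty (Sylow p G))
  -- the Sylow subgroup covers the quotient
  have hcover : ∀ g : G, ∃ s ∈ (S : Subgroup G), (s : G ⧸ H) = (g : G ⧸ H) := by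
    intro g
    have hg : g ∈ H ⊔ (S : Subgroup G) :=
      (Lib.Transfer.sup_sylow_eq_top_of_isPGroup_quotient S hquot).symm ▸ mem_top g
    obtain ⟨h, hh, s, hs, rfl⟩ := mem_sup_of_normal_left.1 hg
    exact ⟨s, hs, by rw [QuotientGroup.mk_mul, (QuotientGroup.eq_one_iff h).2 hh, one_mul]⟩
  have : Nontrivial (center (G ⧸ H)) := hquot.center_nontrivial
  obtain ⟨ζ, hζ, hζ1⟩ : ∃ ζ ∈ center (G ⧸ H), ζ ≠ 1 := by
    obtain ⟨ζ, hζ⟩ := exists_ne (1 : center (G ⧸ H))
    exact ⟨ζ, ζ.2, fun e => hζ (Subtype.ext e)⟩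
  obtain ⟨ζ0, rfl⟩ := QuotientGroup.mk_surjective ζ
  obtain ⟨z, hzS, hz⟩ := hcover ζ0
  rw [← hz] at hζ hζ1
  have hzH : z ∉ H := fun h => hζ1 ((QuotientGroup.eq_one_iff z).2 h)
  have hzo : orderOf (z : G ⧸ H) = p := by
    refine orderOf_eq_prime ?_ hζ1
    rw [← QuotientGroup.mk_pow, hout z hzH]; rfl
  obtain ⟨ξ, hξ⟩ : ∃ ξ : G ⧸ H, ξ ∉ zpowers (z : G ⧸ H) := by
    by_contra hall
    push Not at hall
    have h1 : Nat.card (zpowers (z : G ⧸ H)) = Nat.card (G ⧸ H) := by
      rw [(eq_top_iff' _).2 hall, card_top]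
    rw [Nat.card_zpowers, hzo, hm] at h1
    have := Nat.pow_lt_pow_right hp.out.one_lt (show 1 < m by omega)
    rw [pow_one, ← h1] at this
    exact lt_irrefl p this
  obtain ⟨ξ0, rfl⟩ := QuotientGroup.mk_surjective ξ
  obtain ⟨x, hxS, hx⟩ := hcover ξ0
  rw [← hx] at hξ
  have hxH : x ∉ H := fun h => hξ (by rw [(QuotientGroup.eq_one_iff x).2 h]; exact one_mem _)
  have hSH : ¬ (S : Subgroup G) ≤ H := fun h => hxH (h hxS)
  have hcent := sylow_inf_le_centralizer hVH hout hVp S hSH
  have hd : x * z * x⁻¹ * z⁻¹ ∈ (S : Subgroup G) ⊓ H := by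
    refine mem_inf.2 ⟨mul_mem (mul_mem (mul_mem hxS hzS) (inv_mem hxS)) (inv_mem hzS), ?_⟩
    rw [← QuotientGroup.eq_one_iff]
    simp only [QuotientGroup.mk_mul, QuotientGroup.mk_inv]
    rw [mem_center_iff.1 hζ (x : G ⧸ H)]
    group
  have hc1 : (MulAut.conjNormal (x * z * x⁻¹ * z⁻¹) : MulAut V) = 1 := by
    refine MulEquiv.ext fun v => Subtype.ext ?_
    rw [MulAut.conjNormal_apply, MulAut.one_apply, ← mem_centralizer_iff.1 (hcent hd) (v : G) v.2,
      mul_inv_cancel_right]
  have hz1 := conjNormal_eq_one_of_line hVH hp.out hout hVp (x := x) (z := z) (fun i h => hξ ?_) ?_ ?_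
  · obtain ⟨v, hv, hv1⟩ := V.bot_or_exists_ne_one.resolve_left hVne
    have h1 := orbit_prod_eq_one hVH hout hzH (⟨v, hv⟩ : V)
    simp only [hz1, one_pow, MulAut.one_apply, Finset.prod_const, Finset.card_range] at h1
    apply hv1
    have h2 : v ^ p = 1 := congrArg Subtype.val h1
    have h3 : orderOf v = 1 := Nat.eq_one_of_dvd_coprimes hVp (V.orderOf_dvd_natCard hv) (orderOf_dvd_of_pow_eq_one h2)
    exact orderOf_eq_one_iff.1 h3
  · refine mem_zpowers_iff.2 ⟨-i, ?_⟩
    have := (QuotientGroup.eq_one_iff _).2 h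
    rw [QuotientGroup.mk_mul, QuotientGroup.mk_zpow] at this
    rw [zpow_neg]
    exact (eq_inv_of_mul_eq_one_left this).symm
  · rw [← map_pow, hout z hzH, map_one]
  · rw [map_mul, map_mul, map_mul, map_inv, map_inv] at hc1
    exact mul_inv_eq_iff_eq_mul.1 (mul_inv_eq_one.1 hc1)

end Cfsg.Agent.Lib.FPF
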