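import Cfsg.Agent.Lib.FPF.Frobenius
import Cfsg.Agent.Lib.FPF.FixedPointFree

/-!
Nilpotency of Frobenius kernels.
-/

set_option autoImplicit false

namespace Cfsg.Agent.Lib.FPF

open Subgroup

universe u

/-- A normal subgroup on which some element of prime order acts without nontrivial fixed points is nilpotent. -/
theorem isNilpotent_of_prime_element {G : Type u} [Group G] [Finite G] {N : Subgroup G} [hN : N.Normal]
    {h : G} {r : ℕ} (hr : r.Prime) (hord : h ^ r = 1) (hfix : ∀ n ∈ N, h * n = n * h → n = 1) :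
    Group.IsNilpotent N := by
  refine isNilpotent_of_isFPF hr (MulAut.conjNormal h : MulAut N) (fun n hn => Subtype.ext ?_) ?_
  · refine hfix n n.2 ?_
    have := congrArg Subtype.val hn
    rw [MulAut.conjNormal_apply] at this
    exact mul_inv_eq_iff_eq_mul.1 this
  · rw [← map_pow, hord, map_one]

/-- The Frobenius kernel is a nilpotent normal complement. -/
theorem exists_frobenius_kernel_nilpotent {G : Type u} [Group G] [Finite G] {H : Subgroup G}
    (hH : IsFrobeniusComplement H) :
    ∃ N : Subgroup G, (N : Set G) = frobeniusKernel H ∧ N.Normal ∧ N.IsComplement' H ∧ Group.IsNilpotent N := by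
  obtain ⟨N, hset, hn, hc⟩ := exists_frobenius_kernel hH
  refine ⟨N, hset, hn, hc, ?_⟩
  obtain ⟨r, hr, hrd⟩ := Nat.exists_prime_and_dvd (fun h => hH.1 (card_eq_one.1 h) : Nat.card H ≠ 1)
  have := Fact.mk hr
  obtain ⟨h, hh⟩ := exists_prime_orderOf_dvd_card' (G := H) r hrd
  have hh1 : (h : G) ≠ 1 := by
    intro e
    have : orderOf h = 1 := by rw [← orderOf_coe, e, orderOf_one]
    exact hr.ne_one (hh.symm.trans this)
  refine isNilpotent_of_prime_element hr (h := (h : G))
    (by rw [← hh, ← orderOf_coe, pow_orderOf_eq_one]) fun n hn' e => ?_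
  have h1 : n ∈ H := Lib.Hall.fc_centralizer_le hH h.2 hh1 (mem_centralizer_singleton_iff.2 e.symm)
  exact disjoint_def.1 hc.disjoint hn' h1

end Cfsg.Agent.Lib.FPF
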