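import Cfsg.Agent.Lib.Hall.Frobenius
import Cfsg.Agent.Lib.Char.Induced
import Cfsg.Agent.Lib.Char.Coherent
import Cfsg.Agent.Lib.Char.Kernel

/-!
Frobenius' theorem: the Frobenius kernel is a normal subgroup.
-/

set_option autoImplicit false

namespace Cfsg.Agent.Lib.FPF

open Subgroup Lib.Char Lib.Hall
open scoped Pointwise ComplexConjugate

universe u

variable {G : Type u} [Group G]

/-- A virtual character of norm one and positive degree is irreducible. -/
theorem isIrr_of_generalized_norm_one [Fintype G] {φ : G → ℂ} (hφ : IsGeneralizedCharacter G φ)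
    (h : classInner φ φ = 1) {d : ℕ} (hd : φ 1 = d) : IsIrrCharacter G φ := by
  classical
  choose z hz using generalized_classInner_int hφ
  have hcf := isClassFunction_of_generalized hφ
  have hsq : ∑ χ : IrrCharacter G, z χ * z χ = 1 := by
    have h3 := classInner_eq_sum (φ := φ) hcf
    rw [h] at h3
    simp only [hz, map_intCast] at h3
    exact_mod_cast h3.symm
  obtain ⟨χ₀, hχ₀⟩ : ∃ χ₀, z χ₀ ≠ 0 := by
    by_contra hc
    push Not at hc
    simp [hc] at hsq
  have hsplit := Finset.add_sum_erase Finset.univ (fun χ => z χ * z χ) (Finset.mem_univ χ₀)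
  have hnn : 0 ≤ ∑ χ ∈ Finset.univ.erase χ₀, z χ * z χ := Finset.sum_nonneg fun χ _ => mul_self_nonneg _
  have hpos : 0 < z χ₀ * z χ₀ := mul_self_pos.2 hχ₀
  have hrest : ∑ χ ∈ Finset.univ.erase χ₀, z χ * z χ = 0 := by linarith
  have hz0 : ∀ χ, χ ≠ χ₀ → z χ = 0 := fun χ hχ =>
    mul_self_eq_zero.1 ((Finset.sum_eq_zero_iff_of_nonneg fun χ _ => mul_self_nonneg _).1 hrest χ (by simp [hχ]))
  have heq : φ = (z χ₀ : ℂ) • (χ₀ : G → ℂ) := by
    rw [eq_sum_classInner_smul hcf, Finset.sum_eq_single χ₀]
    · rw [hz]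
    · intro b _ hb
      simp [hz, hz0 b hb]
    · simp
  have h1 : z χ₀ * z χ₀ = 1 := by linarith
  rcases mul_self_eq_one_iff.1 h1 with h2 | h2
  · rw [heq, h2, Int.cast_one, one_smul]; exact χ₀.2
  · exfalso
    have h3 := congrFun heq 1
    rw [hd, h2, Pi.smul_apply, apply_one_eq_charDegree (isCharacter_of_isIrr χ₀.2)] at h3
    simp only [Int.cast_neg, Int.cast_one, smul_eq_mul, neg_mul, one_mul] at h3
    have h4 : (d : ℤ) = -(charDegree (χ₀ : G → ℂ) : ℤ) := by exact_mod_cast h3
    have := charDegree_pos χ₀.2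
    omega

variable {H : Subgroup G}

theorem indFun_fc_apply [Fintype G] (hH : IsFrobeniusComplement H) {φ : H → ℂ}
    (hφ : IsClassFunction H φ) (h : H) (hne : h ≠ 1) : indFun H φ h = φ h := by
  classical
  have hx : ∀ x : G, extendByZero H φ (x⁻¹ * h * x) = if x ∈ H then φ h else 0 := by
    intro x
    by_cases hxH : x ∈ H
    · rw [if_pos hxH]
      have := extendByZero_conj hφ (H.inv_mem hxH) (h : G)
      rw [inv_inv, extendByZero_coe] at this
      exact this
    · rw [if_neg hxH, extendByZero_not_mem]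
      intro hm
      refine hne (Subtype.ext (fc_eq_one hH hxH h.2 (Lib.Coprime.mem_conj_smul.2 hm)))
  simp only [indFun, hx]
  rw [← Finset.sum_filter, Finset.sum_const, nsmul_eq_mul, ← Fintype.card_subtype,
    ← Nat.card_eq_fintype_card, ← mul_assoc]
  exact (congrArg (· * φ h) (inv_mul_cancel₀ (card_ne_zero_complex H))).trans (one_mul _)

theorem indFun_fc_kernel [Fintype G] {φ : H → ℂ} {g : G} (hg : g ∉ covered H) (hg1 : g ≠ 1) :
    indFun H φ g = 0 := by
  classical
  simp only [indFun]
  rw [Finset.sum_eq_zero fun x _ => ?_, mul_zero]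
  refine extendByZero_not_mem H φ fun hm => hg ⟨hg1, x, ?_⟩
  exact Lib.Coprime.mem_conj_smul.2 hm

/-- Each irreducible character of a Frobenius complement extends to an irreducible character
of the group whose kernel contains the Frobenius kernel. -/
theorem exists_frobenius_extension [Fintype G] (hH : IsFrobeniusComplement H) (θ : IrrCharacter H) :
    ∃ χ : G → ℂ, IsCharacter G χ ∧ (∀ h : H, χ h = (θ : H → ℂ) h) ∧
      ∀ g ∈ frobeniusKernel H, χ g = χ 1 := by
  classical
  have := Fintype.ofFinite H
  obtain ⟨d, hd⟩ : ∃ d : ℕ, (θ : H → ℂ) 1 = d := ⟨_, apply_one_eq_charDegree (isCharacter_of_isIrr θ.2)⟩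
  by_cases hθ : (θ : H → ℂ) = fun _ => 1
  · exact ⟨fun _ => 1, isCharacter_one, fun h => by rw [hθ], fun _ _ => rfl⟩
  set one : H → ℂ := fun _ => 1 with hone
  set φ : H → ℂ := (d : ℂ) • one - (θ : H → ℂ) with hφ
  have hφc : IsClassFunction H φ :=
    isClassFunction_sub (isClassFunction_smul _ (isClassFunction_of_isCharacter isCharacter_one))
      (isClassFunction_of_isIrr θ.2)
  have hφ1 : φ 1 = 0 := by simp [hφ, hone, hd]
  have hres : ∀ h : H, indFun H φ h = φ h := by
    intro h
    by_cases h1 : h = 1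
    · subst h1
      rw [OneMemClass.coe_one, indFun_one, hφ1, mul_zero]
    · exact indFun_fc_apply hH hφc h h1
  set oneG : G → ℂ := fun _ => 1 with honeG
  have honeR : (fun h : H => oneG h) = one := rfl
  set χ : G → ℂ := (d : ℂ) • oneG - indFun H φ with hχ
  have hgen : IsGeneralizedCharacter G χ := by
    refine ⟨(d : ℕ) • oneG + indFun H (θ : H → ℂ), (d : ℕ) • indFun H one,
      isCharacter_add (isCharacter_nsmul isCharacter_one d)
        (isCharacter_indFun H (isCharacter_of_isIrr θ.2)),
      isCharacter_nsmul (isCharacter_indFun H isCharacter_one) d, ?_⟩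
    rw [hχ, hφ, indFun_sub, indFun_smul, Nat.cast_smul_eq_nsmul, Nat.cast_smul_eq_nsmul]
    abel
  have h11 : classInner one one = 1 := classInner_irr_self isIrrCharacter_one
  have hθθ : classInner (θ : H → ℂ) (θ : H → ℂ) = 1 := classInner_irr_self θ.2
  have h1θ : classInner one (θ : H → ℂ) = 0 :=
    classInner_irr_ne isIrrCharacter_one θ.2 (fun e => hθ e.symm)
  have hθ1 : classInner (θ : H → ℂ) one = 0 := classInner_irr_ne θ.2 isIrrCharacter_one hθ
  have hnorm : classInner χ χ = 1 := by
    have hA : classInner oneG oneG = 1 := classInner_irr_self isIrrCharacter_one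
    have hB : classInner (indFun H φ) oneG = (d : ℂ) := by
      rw [classInner_indFun H φ (isClassFunction_of_isCharacter isCharacter_one), honeR, hφ,
        classInner_sub_left, classInner_smul_left, h11, hθ1]
      simp
    have hC : classInner oneG (indFun H φ) = (d : ℂ) := by
      rw [classInner_conj_symm, hB, map_natCast]
    have hD : classInner (indFun H φ) (indFun H φ) = (d : ℂ) * d + 1 := by
      rw [classInner_indFun H φ (isClassFunction_indFun H φ), show (fun h : H => indFun H φ h) = φ from funext hres, hφ]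
      simp only [classInner_sub_left, classInner_sub_right, classInner_smul_left, classInner_smul_right,
        h11, hθθ, h1θ, hθ1, map_natCast]
      ring
    rw [hχ]
    simp only [classInner_sub_left, classInner_sub_right, classInner_smul_left, classInner_smul_right,
      hA, hB, hC, hD, map_natCast]
    ring
  have hχ1 : χ 1 = d := by
    simp [hχ, honeG, indFun_one, hφ1]
  refine ⟨χ, isCharacter_of_isIrr (isIrr_of_generalized_norm_one hgen hnorm hχ1), fun h => ?_, fun g hg => ?_⟩
  · show (d : ℂ) • oneG (h : G) - indFun H φ h = _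
    rw [hres h]
    simp [hφ, honeG, hone]
  · rcases hg with rfl | hg
    · rfl
    · rw [hχ1]
      by_cases hg1 : g = 1
      · rw [hg1, hχ1]
      · have : g ∉ covered H := fun ⟨_, x, hx⟩ => hg x hx
        simp [hχ, honeG, indFun_fc_kernel this hg1]

/-- Frobenius' theorem. -/
theorem exists_frobenius_kernel [Finite G] (hH : IsFrobeniusComplement H) :
    ∃ N : Subgroup G, (N : Set G) = frobeniusKernel H ∧ N.Normal ∧ N.IsComplement' H := by
  classical
  have := Fintype.ofFinite G
  choose χ hχ hres hker using exists_frobenius_extension hH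
  set N : Subgroup G := ⨅ θ : IrrCharacter H, charKer (χ θ) with hN
  have hNn : N.Normal := normal_iInf_normal fun θ => charKer_normal (hχ θ)
  have hinf : N ⊓ H = ⊥ := by
    rw [eq_bot_iff]
    intro x hx
    obtain ⟨hxN, hxH⟩ := mem_inf.1 hx
    rw [hN, mem_iInf] at hxN
    refine mem_bot.2 (congrArg Subtype.val (eq_one_of_forall_irr (G := H) (g := ⟨x, hxH⟩) fun θ => ?_))
    have h1 := (mem_charKer (hχ θ)).1 (hxN θ)
    have h2 := hres θ ⟨x, hxH⟩
    have h3 := hres θ 1
    simp only at h2
    rw [OneMemClass.coe_one] at h3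
    rw [← h2, ← h3]
    exact h1
  have hset : (N : Set G) = frobeniusKernel H := by
    refine Set.Subset.antisymm (fun x hx => ?_) (fun x hx => ?_)
    · rw [frobeniusKernel_eq_compl]
      rintro ⟨hx1, g, hg⟩
      apply hx1
      have h1 : g⁻¹ * x * g ∈ N ⊓ H :=
        mem_inf.2 ⟨by simpa using hNn.conj_mem x hx g⁻¹, Lib.Coprime.mem_conj_smul.1 hg⟩
      rw [hinf, mem_bot] at h1
      calc x = g * (g⁻¹ * x * g) * g⁻¹ := by group
        _ = 1 := by rw [h1]; group
    · rw [hN, SetLike.mem_coe, mem_iInf]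
      exact fun θ => (mem_charKer (hχ θ)).2 (hker θ x hx)
  refine ⟨N, hset, hNn, ?_⟩
  have hcard : Nat.card N = H.index := by
    rw [← card_frobeniusKernel hH, ← hset]
    rfl
  exact isComplement'_of_card_mul_and_disjoint (by rw [hcard, index_mul_card]) (disjoint_iff.2 hinf)

end Cfsg.Agent.Lib.FPF
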